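import Mathlib
import Cfsg.Agent.Lib.RuO.Lk

set_option autoImplicit false
set_option maxRecDepth 100000
set_option Elab.async false
set_option linter.all false

namespace Cfsg.Agent.Lib.RuO

open Cfsg.Agent.Lib.OutStrip Cfsg.Agent.Lib.TcFacts Cfsg.Agent.Lib.TcBits Cfsg.Agent.Lib.TcChain

theorem c_tA0 : chk (wTab 0) tA0 = true := by decide +kernel

theorem c_tA1 : chk (wTab 1) tA1 = true := by decide +kernel

theorem c_tA2 : chk (wTab 2) tA2 = true := by decide +kernel

theorem c_tA3 : chk (wTab 3) tA3 = true := by decide +kernel

theorem c_tA4 : chk (wTab 4) tA4 = true := by decide +kernel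

theorem c_tA5 : chk (wTab 5) tA5 = true := by decide +kernel

theorem c_tA6 : chk (wTab 6) tA6 = true := by decide +kernel

theorem c_tA7 : chk (wTab 7) tA7 = true := by decide +kernel

theorem c_tF : chk (wTab 8) tF = true := by decide +kernel

theorem c_tX2 : chk (wTab 9) tX2 = true := by decide +kernel

theorem c_tR : chk (wTab 10) tR = true := by decide +kernel

theorem c_tC : chk (wTab 11) tC = true := by decide +kernel

theorem c_tCi : chk (wTab 12) tCi = true := by decide +kernel

theorem c_tFi : chk (wTab 13) tFi = true := by decide +kernel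

theorem c_tAi : chk (wTab 14) tAi = true := by decide +kernel

end Cfsg.Agent.Lib.RuO
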