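import Mathlib
import Cfsg.Agent.Lib.RuO.Chk
import Cfsg.Agent.Lib.RuMain

set_option autoImplicit false
set_option maxRecDepth 100000
set_option Elab.async false
set_option linter.all false

namespace Cfsg.Agent.Lib.RuO

open Cfsg.Agent.Lib.OutStrip Cfsg.Agent.Lib.TcFacts Cfsg.Agent.Lib.TcBits Cfsg.Agent.Lib.TcChain
open Cfsg.Agent.Lib.RuMain Cfsg.Agent.Lib.ProgChain Cfsg.Agent.Lib.ProgBits

/-- the group of programs -/
noncomputable abbrev AA : Subgroup (Equiv.Perm ℕ) := Gp pL S0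

/-- the number of points -/
abbrev nn : ℕ := 4060

/-- the extension of permutations of the segment -/
noncomputable def iotaH : Equiv.Perm (Fin 4060) →* Equiv.Perm ℕ :=
  Equiv.Perm.extendDomainHom (Fin.equivSubtype (n := 4060))

theorem iotaH_inj : Function.Injective iotaH := Equiv.Perm.extendDomainHom_injective _

theorem iotaH_lt (w : Equiv.Perm (Fin 4060)) {i : ℕ} (hi : i < 4060) : iotaH w i = (w ⟨i, hi⟩).val := by
  show Equiv.Perm.extendDomain w (Fin.equivSubtype (n := 4060)) i = _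
  rw [Equiv.Perm.extendDomain_apply_subtype (p := fun i => i < 4060) w _ hi]
  rfl

theorem iotaH_ge (w : Equiv.Perm (Fin 4060)) {i : ℕ} (hi : ¬ i < 4060) : iotaH w i = i := by
  show Equiv.Perm.extendDomain w (Fin.equivSubtype (n := 4060)) i = _
  rw [Equiv.Perm.extendDomain_apply_not_subtype (p := fun i => i < 4060) w _ hi]

/-- the two generators -/
noncomputable def pB (b : Bool) : List (ℕ × ℕ) := cond b (Cfsg.Agent.Lib.RuPTab.pr 1) (Cfsg.Agent.Lib.RuPTab.pr 0)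

theorem habB : ∀ x ∈ [false, true], ∀ j, j < 12 →
    progApply (pB x) (Nat.land (slice 12 j) (2 ^ (2 ^ 12) - 2 ^ 4060)) =
      Nat.land (slice 12 j) (2 ^ (2 ^ 12) - 2 ^ 4060) := by decide +kernel

theorem hvB : ∀ b, validProg (2 ^ 12) (pB b) = true := by decide +kernel

theorem fixB : ∀ x, ∀ i, 4060 ≤ i → progPerm (pB x) i = i :=
  fix_above_gen (by norm_num) (by norm_num) hvB [false, true] (by intro x; cases x <;> decide) habB

theorem iotaH_gen {e : ℕ} (he : e < 2) : iotaH (gH e) = progPerm (pL e) := by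
  ext i
  have hpL : pL e = pB (decide (e = 1)) := by
    interval_cases e <;> rfl
  by_cases hi : i < 4060
  · rw [iotaH_lt _ hi]
    have h1 := (Cfsg.Agent.Lib.RuPMain.ctx).lp_apply e ⟨i, hi⟩
    have h2 : pL e = Cfsg.Agent.Lib.RuPTab.pr e := by
      interval_cases e <;> rfl
    rw [h2]
    exact h1
  · rw [iotaH_ge _ hi, hpL, fixB _ i (by omega)]

theorem hmapAA : HH.map iotaH = AA := by
  apply le_antisymm
  · rw [Subgroup.map_le_iff_le_comap]
    apply (Subgroup.closure_le _).mpr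
    rintro _ ⟨k, hk, rfl⟩
    have h1 : k ∈ List.range' 0 2 := hk
    rw [List.mem_range'_1] at h1
    have h2 : k < 2 := by omega
    show iotaH (gH k) ∈ AA
    rw [iotaH_gen h2]
    apply mem_Gp_of_mem
    interval_cases k <;> decide
  · apply (Subgroup.closure_le _).mpr
    rintro _ ⟨i, hi, rfl⟩
    have h1 : i ∈ S0 := hi
    have h2 : i < 2 := by
      have h3 : ∀ i ∈ S0, i < 2 := by decide
      exact h3 i h1
    refine ⟨gH i, gen_mem_grp _ (by omega) (by omega), iotaH_gen h2⟩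

theorem cardAA : Nat.card AA = 145926144000 := by
  rw [← hmapAA, Subgroup.card_map_of_injective iotaH_inj]
  exact Cfsg.Agent.Lib.RuPMain.cardH0

theorem lvl0 (h : Nat.card (Gp pL S0) ≠ 0) : Nat.card (Gp pL S1) ≠ 0 ∧ 4060 * Nat.card (Gp pL S1) ≤ Nat.card (Gp pL S0) :=
  level_step hvp S0 S1 W hW0 heq0 hfx0 hgrow0 hc0 h
theorem lvl1 (h : Nat.card (Gp pL S1) ≠ 0) : Nat.card (Gp pL S2) ≠ 0 ∧ 2304 * Nat.card (Gp pL S2) ≤ Nat.card (Gp pL S1) :=
  level_step hvp S1 S2 W hW1 heq1 hfx1 hgrow1 hc1 h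
theorem lvl2 (h : Nat.card (Gp pL S2) ≠ 0) : Nat.card (Gp pL S3) ≠ 0 ∧ 975 * Nat.card (Gp pL S3) ≤ Nat.card (Gp pL S2) :=
  level_step hvp S2 S3 W hW2 heq2 hfx2 hgrow2 hc2 h
theorem lvl3 (h : Nat.card (Gp pL S3) ≠ 0) : Nat.card (Gp pL S4) ≠ 0 ∧ 16 * Nat.card (Gp pL S4) ≤ Nat.card (Gp pL S3) :=
  level_step hvp S3 S4 W hW3 heq3 hfx3 hgrow3 hc3 h

theorem cards : Nat.card (Gp pL S1) = 35942400 ∧ Nat.card (Gp pL S2) = 15600 ∧ Nat.card (Gp pL S3) = 16 ∧ Nat.card (Gp pL S4) = 1 := by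
  have h0 : Nat.card (Gp pL S0) ≠ 0 := by
    show Nat.card AA ≠ 0
    rw [cardAA]
    norm_num
  have L0 := lvl0 h0
  have L1 := lvl1 L0.1
  have L2 := lvl2 L1.1
  have L3 := lvl3 L2.1
  have h5 := Nat.pos_of_ne_zero L3.1
  have h4 : Nat.card (Gp pL S0) = 145926144000 := cardAA
  have h6 := L0.2
  have h7 := L1.2
  have h8 := L2.2
  have h9 := L3.2
  omega

theorem e4 : Gp pL S4 = ⊥ := by
  simp [Gp, S4]

theorem le1 : Gp pL S1 ≤ Gp pL S0 := Gp_le hvp S0 S1 W hW0 heq0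
theorem le2 : Gp pL S2 ≤ Gp pL S1 := Gp_le hvp S1 S2 W hW1 heq1
theorem le3 : Gp pL S3 ≤ Gp pL S2 := Gp_le hvp S2 S3 W hW2 heq2

theorem st0 : ∀ z ∈ Gp pL S0, z 176 = 176 → z ∈ Gp pL S1 :=
  stab_step hvp S0 S1 W hW0 heq0 hfx0 hgrow0 hc0 (by show Nat.card AA ≠ 0; rw [cardAA]; norm_num) (by
    show Nat.card AA ≤ _
    rw [cardAA, cards.1])
theorem st1 : ∀ z ∈ Gp pL S1, z 2065 = 2065 → z ∈ Gp pL S2 :=
  stab_step hvp S1 S2 W hW1 heq1 hfx1 hgrow1 hc1 (by rw [cards.1]; norm_num) (by rw [cards.1, cards.2.1])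
theorem st2 : ∀ z ∈ Gp pL S2, z 3715 = 3715 → z ∈ Gp pL S3 :=
  stab_step hvp S2 S3 W hW2 heq2 hfx2 hgrow2 hc2 (by rw [cards.2.1]; norm_num) (by rw [cards.2.1, cards.2.2.1])
theorem st3 : ∀ z ∈ Gp pL S3, z 1150 = 1150 → z ∈ (⊥ : Subgroup (Equiv.Perm ℕ)) := by
  rw [← e4]
  exact stab_step hvp S3 S4 W hW3 heq3 hfx3 hgrow3 hc3 (by rw [cards.2.2.1]; norm_num) (by rw [cards.2.2.1, cards.2.2.2])

theorem lt_AA {z : Equiv.Perm ℕ} (hz : z ∈ AA) : ∀ i, i < nn → z i < nn := by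
  rw [← hmapAA] at hz
  obtain ⟨w, -, rfl⟩ := hz
  intro i hi
  rw [iotaH_lt w hi]
  exact (w ⟨i, hi⟩).isLt

theorem CMl_eq : CMl = 2 ^ (12 * 528) - 1 := by decide +kernel
theorem MULl_eq : MULl = OutStrip.repU 11 11 := by decide +kernel
theorem MSKl_eq : MSKl = OutStrip.repU 12 11 := by decide +kernel
theorem CSl_eq : CSl = 2 ^ 528 - 1 := by decide +kernel

theorem lk_eq : lk = lkF 12 528 (12 * 528) (2 ^ (12 * 528) - 1) (2 ^ 12 - 1) := by
  funext t i
  unfold lk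
  rw [← CMl_eq]
  rfl

theorem hlk : ReadsT lk 12 := by
  rw [lk_eq]
  exact readsT_lkF (by norm_num)

theorem rep_of_chk {w : List (ℕ × Bool)} {T : ℕ} (hw : wordPerm (sgnProg pL) w ∈ AA)
    (h1 : chk w T = true) :
    RepT lk nn (wordPerm (sgnProg pL) w) T := by
  refine repT_of_word (N := 2 ^ 12) (K := 12) (B := 11) (CS := 528) (NB := 48) (KB := 6) (NH := 8) (KH := 3) hlk (sgnProg pL) w
    (fun a _ => valid_sgnProg hvp a) (by norm_num) (by norm_num) (by norm_num) (by norm_num) (by norm_num) (by norm_num)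
    (by norm_num) (lt_AA hw) ?_
  intro j hj
  have h2 := planes_of_chkT (KW := 4) (by norm_num) h1 j hj
  rw [MULl_eq, MSKl_eq, CMl_eq, CSl_eq] at h2
  exact h2

theorem rp {S S' : List ℕ} (hle : Gp pL S ≤ Gp pL S') (hS' : Gp pL S' ≤ AA) {w : List (ℕ × Bool)} {T : ℕ} (hw : ∀ a ∈ w, a.1 ∈ S)
    (h : chk w T = true) : ∃ s ∈ Gp pL S', RepT lk nn s T :=
  ⟨wordPerm (sgnProg pL) w, hle (word_mem_Gp hvp hw), rep_of_chk (hS' (hle (word_mem_Gp hvp hw))) h⟩

theorem hts0 : ∀ t ∈ lv0.ts, ∃ s ∈ Gp pL S0, RepT lk nn s t := by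
  intro t ht
  simp only [lv0, List.mem_cons, List.not_mem_nil, or_false] at ht
  rcases ht with rfl|rfl|rfl|rfl|rfl|rfl|rfl|rfl
  exacts [rp le_rfl le_rfl (S := S0) (w := wTab 0) (by decide +kernel) c_tA0,
    rp le_rfl le_rfl (S := S0) (w := wTab 1) (by decide +kernel) c_tA1,
    rp (le1) le_rfl (S := S1) (w := wTab 2) (by decide +kernel) c_tA2,
    rp (le1) le_rfl (S := S1) (w := wTab 3) (by decide +kernel) c_tA3,
    rp (le2.trans (le1)) le_rfl (S := S2) (w := wTab 4) (by decide +kernel) c_tA4,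
    rp (le2.trans (le1)) le_rfl (S := S2) (w := wTab 5) (by decide +kernel) c_tA5,
    rp (le3.trans (le2.trans (le1))) le_rfl (S := S3) (w := wTab 6) (by decide +kernel) c_tA6,
    rp (le3.trans (le2.trans (le1))) le_rfl (S := S3) (w := wTab 7) (by decide +kernel) c_tA7]

theorem hts1 : ∀ t ∈ lv1.ts, ∃ s ∈ Gp pL S1, RepT lk nn s t := by
  intro t ht
  simp only [lv1, List.mem_cons, List.not_mem_nil, or_false] at ht
  rcases ht with rfl|rfl|rfl|rfl|rfl|rfl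
  exacts [rp le_rfl (le1) (S := S1) (w := wTab 2) (by decide +kernel) c_tA2,
    rp le_rfl (le1) (S := S1) (w := wTab 3) (by decide +kernel) c_tA3,
    rp (le2) (le1) (S := S2) (w := wTab 4) (by decide +kernel) c_tA4,
    rp (le2) (le1) (S := S2) (w := wTab 5) (by decide +kernel) c_tA5,
    rp (le3.trans (le2)) (le1) (S := S3) (w := wTab 6) (by decide +kernel) c_tA6,
    rp (le3.trans (le2)) (le1) (S := S3) (w := wTab 7) (by decide +kernel) c_tA7]

theorem hts2 : ∀ t ∈ lv2.ts, ∃ s ∈ Gp pL S2, RepT lk nn s t := by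
  intro t ht
  simp only [lv2, List.mem_cons, List.not_mem_nil, or_false] at ht
  rcases ht with rfl|rfl|rfl|rfl
  exacts [rp le_rfl (le2.trans (le1)) (S := S2) (w := wTab 4) (by decide +kernel) c_tA4,
    rp le_rfl (le2.trans (le1)) (S := S2) (w := wTab 5) (by decide +kernel) c_tA5,
    rp (le3) (le2.trans (le1)) (S := S3) (w := wTab 6) (by decide +kernel) c_tA6,
    rp (le3) (le2.trans (le1)) (S := S3) (w := wTab 7) (by decide +kernel) c_tA7]

theorem hts3 : ∀ t ∈ lv3.ts, ∃ s ∈ Gp pL S3, RepT lk nn s t := by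
  intro t ht
  simp only [lv3, List.mem_cons, List.not_mem_nil, or_false] at ht
  rcases ht with rfl|rfl
  exacts [rp le_rfl (le3.trans (le2.trans (le1))) (S := S3) (w := wTab 6) (by decide +kernel) c_tA6,
    rp le_rfl (le3.trans (le2.trans (le1))) (S := S3) (w := wTab 7) (by decide +kernel) c_tA7]

/-- The chain of stabilizers. -/
theorem hCh : Ch lk nn AA Ls := by
  show Ch lk nn _ [lv0, lv1, lv2, lv3]
  refine Ch.cons (H' := Gp pL S1) ?_ st0 hts0 (Ch.cons (H' := Gp pL S2) ?_ st1 hts1 (Ch.cons (H' := Gp pL S3) ?_ st2 hts2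
    (Ch.cons (H' := ⊥) ?_ st3 hts3 Ch.nil)))
  · exact mask_of_gens hvp S0 hb0 hm0
  · exact mask_of_gens hvp S1 hb1 hm1
  · exact mask_of_gens hvp S2 hb2 hm2
  · exact mask_of_gens hvp S3 hb3 hm3

theorem hbase : ∀ b ∈ baseOf Ls, b < nn := by decide +kernel

theorem eB : baseOf Ls = base := rfl

end Cfsg.Agent.Lib.RuO
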