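import Mathlib
import Cfsg.Agent.Lib.RuO.Ch

/-!
# The elements of the frame of the Rudvalis group on 4060 points
-/

set_option autoImplicit false
set_option maxRecDepth 100000
set_option Elab.async false
set_option linter.all false

namespace Cfsg.Agent.Lib.RuO

open Cfsg.Agent.Lib.OutStrip Cfsg.Agent.Lib.TcFacts Cfsg.Agent.Lib.TcBits Cfsg.Agent.Lib.TcChain
open Cfsg.Agent.Lib.RuMain Cfsg.Agent.Lib.ProgChain Cfsg.Agent.Lib.ProgBits

/-- the permutation of a table -/
noncomputable def sP (j : ℕ) : Equiv.Perm ℕ := wordPerm (sgnProg pL) (wTab j)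

theorem hTm : ∀ j, j < NT → sP j ∈ AA := by
  have key : ∀ j, j < NT → (wTab j).all (fun a => Nat.blt a.1 8) = true := by decide +kernel
  have hl : ∀ i, i < 8 → progPerm (pL i) ∈ AA := by
    intro i hi
    have hc : i ∈ S0 ∨ i ∈ S1 ∨ i ∈ S2 ∨ i ∈ S3 := by
      interval_cases i <;> decide
    rcases hc with h | h | h | h
    · exact mem_Gp_of_mem h
    · exact le1 (mem_Gp_of_mem h)
    · exact le1 (le2 (mem_Gp_of_mem h))
    · exact le1 (le2 (le3 (mem_Gp_of_mem h)))
  have hword : ∀ w : List (ℕ × Bool), w.all (fun a => Nat.blt a.1 8) = true → wordPerm (sgnProg pL) w ∈ AA := by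
    intro w h1
    induction w with
    | nil => exact AA.one_mem
    | cons a w ih =>
      rw [List.all_cons, Bool.and_eq_true] at h1
      have e : wordPerm (sgnProg pL) (a :: w) = progPerm (sgnProg pL a) * wordPerm (sgnProg pL) w := by
        simp [wordPerm]
      rw [e]
      refine AA.mul_mem ?_ (ih h1.2)
      have h2 : a.1 < 8 := by
        have := h1.1
        rw [Nat.blt_eq] at this
        exact this
      obtain ⟨i, b⟩ := a
      cases b
      · show progPerm (pL i).reverse ∈ _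
        rw [progPerm_reverse_mul _ _ (hvp i)]
        exact AA.inv_mem (hl i h2)
      · exact hl i h2
  intro j hj
  exact hword _ (key j hj)

theorem hTr : ∀ j, j < NT → RepT lk nn (sP j) (tab j) := by
  intro j hj
  have hm := hTm j hj
  interval_cases j
  exacts [rep_of_chk hm c_tA0, rep_of_chk hm c_tA1, rep_of_chk hm c_tA2, rep_of_chk hm c_tA3, rep_of_chk hm c_tA4,
    rep_of_chk hm c_tA5, rep_of_chk hm c_tA6, rep_of_chk hm c_tA7, rep_of_chk hm c_tF, rep_of_chk hm c_tX2,
    rep_of_chk hm c_tR, rep_of_chk hm c_tC, rep_of_chk hm c_tCi, rep_of_chk hm c_tFi, rep_of_chk hm c_tAi]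

/-- the element of order 29 -/
noncomputable def xP : Equiv.Perm ℕ := sP 0
/-- the second generator -/
noncomputable def bP : Equiv.Perm ℕ := sP 1
/-- the element of order 14 -/
noncomputable def fP : Equiv.Perm ℕ := sP 8
/-- the other form of `x` -/
noncomputable def x2P : Equiv.Perm ℕ := sP 9
/-- the involution -/
noncomputable def rP : Equiv.Perm ℕ := sP 10
/-- the change of frame -/
noncomputable def cP : Equiv.Perm ℕ := sP 11
/-- its inverse -/
noncomputable def ciP : Equiv.Perm ℕ := sP 12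
/-- the inverse of `f` -/
noncomputable def fiP : Equiv.Perm ℕ := sP 13
/-- the inverse of `x` -/
noncomputable def xiP : Equiv.Perm ℕ := sP 14

theorem m_x : xP ∈ AA := hTm 0 (by norm_num)
theorem m_b : bP ∈ AA := hTm 1 (by norm_num)
theorem m_f : fP ∈ AA := hTm 8 (by norm_num)
theorem m_x2 : x2P ∈ AA := hTm 9 (by norm_num)
theorem m_r : rP ∈ AA := hTm 10 (by norm_num)
theorem m_c : cP ∈ AA := hTm 11 (by norm_num)
theorem m_ci : ciP ∈ AA := hTm 12 (by norm_num)
theorem m_fi : fiP ∈ AA := hTm 13 (by norm_num)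
theorem m_xi : xiP ∈ AA := hTm 14 (by norm_num)

theorem r_x : RepT lk nn xP tA0 := hTr 0 (by norm_num)
theorem r_b : RepT lk nn bP tA1 := hTr 1 (by norm_num)
theorem r_f : RepT lk nn fP tF := hTr 8 (by norm_num)
theorem r_x2 : RepT lk nn x2P tX2 := hTr 9 (by norm_num)
theorem r_r : RepT lk nn rP tR := hTr 10 (by norm_num)
theorem r_c : RepT lk nn cP tC := hTr 11 (by norm_num)
theorem r_ci : RepT lk nn ciP tCi := hTr 12 (by norm_num)
theorem r_fi : RepT lk nn fiP tFi := hTr 13 (by norm_num)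
theorem r_xi : RepT lk nn xiP tAi := hTr 14 (by norm_num)

/-- equality on the base -/
theorem eqb {a b : Equiv.Perm ℕ} (ha : a ∈ AA) (hb : b ∈ AA) {A B : List ℕ} (hA : RepL lk nn a A) (hB : RepL lk nn b B)
    (h : agreeB lk base A B = true) : a = b :=
  eq_of_agree hCh ha hb hA hB hbase h

/-- the powers of a product -/
theorem repL_pow {a : Equiv.Perm ℕ} {A : List ℕ} (hA : RepL lk nn a A) : ∀ k, RepL lk nn (a ^ k) (List.replicate k A).flatten
  | 0 => by simpa using repL_one
  | k + 1 => by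
    rw [pow_succ', List.replicate_succ, List.flatten_cons]
    exact hA.append (repL_pow hA k)

theorem x_xi : xP * xiP = 1 := eqb (AA.mul_mem m_x m_xi) AA.one_mem (r_x.toL.append r_xi.toL) repL_one (by decide +kernel)
theorem c_ci : cP * ciP = 1 := eqb (AA.mul_mem m_c m_ci) AA.one_mem (r_c.toL.append r_ci.toL) repL_one (by decide +kernel)
theorem f_fi : fP * fiP = 1 := eqb (AA.mul_mem m_f m_fi) AA.one_mem (r_f.toL.append r_fi.toL) repL_one (by decide +kernel)
theorem r_r1 : rP * rP = 1 := eqb (AA.mul_mem m_r m_r) AA.one_mem (r_r.toL.append r_r.toL) repL_one (by decide +kernel)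

theorem xi_eq : xiP = xP⁻¹ := eq_inv_of_mul_eq_one_right x_xi
theorem ci_eq : ciP = cP⁻¹ := eq_inv_of_mul_eq_one_right c_ci
theorem fi_eq : fiP = fP⁻¹ := eq_inv_of_mul_eq_one_right f_fi
theorem r_inv : rP⁻¹ = rP := (eq_inv_of_mul_eq_one_left r_r1).symm

theorem x_pow : xP ^ 29 = 1 :=
  eqb (AA.pow_mem m_x 29) AA.one_mem (repL_pow r_x.toL 29) repL_one (by decide +kernel)

theorem x_ne : xP ≠ 1 := by
  intro h
  have h1 : ev lk [tA0] 0 ≠ 0 := by decide +kernel
  apply h1
  rw [← r_x.toL.eq 0 (by norm_num), h]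
  rfl

theorem f_x : fP * xP = xP ^ 9 * fP :=
  eqb (AA.mul_mem m_f m_x) (AA.mul_mem (AA.pow_mem m_x 9) m_f) (r_f.toL.append r_x.toL) ((repL_pow r_x.toL 9).append r_f.toL)
    (by decide +kernel)

theorem c_x : cP * xP = x2P * cP :=
  eqb (AA.mul_mem m_c m_x) (AA.mul_mem m_x2 m_c) (r_c.toL.append r_x.toL) (r_x2.toL.append r_c.toL) (by decide +kernel)

theorem r_f_comm : rP * fP = fP * rP :=
  eqb (AA.mul_mem m_r m_f) (AA.mul_mem m_f m_r) (r_r.toL.append r_f.toL) (r_f.toL.append r_r.toL) (by decide +kernel)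

theorem hSel {a b c : Equiv.Perm ℕ} {A B C : List ℕ} (ha : RepL lk nn a A) (hb : RepL lk nn b B) (hc : RepL lk nn c C) (e : ℕ) :
    RepL lk nn (sel3 a b c e) (sel3 A B C e) := by
  rcases e with _ | _ | e
  · exact ha
  · exact hb
  · exact hc

theorem hSelM {a b c : Equiv.Perm ℕ} (ha : a ∈ AA) (hb : b ∈ AA) (hc : c ∈ AA) (e : ℕ) : sel3 a b c e ∈ AA := by
  rcases e with _ | _ | e
  · exact ha
  · exact hb
  · exact hc

theorem r_rels : ∀ R ∈ Rs, prodG (sel3 xP fP rP) R = 1 := by
  intro R hR'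
  have h : Rs.all (fun R => relB lk (sel3 sX sF sR) base R) = true := by decide +kernel
  exact one_of_relB hCh (hSel r_x.toL r_f.toL r_r.toL) (hSelM m_x m_f m_r) hbase ((List.all_eq_true.mp h) R hR')

/-! ### the searches -/

/-- the test of the centralizer of `x` -/
noncomputable def testX : List ℕ → Bool := testCent lk base tX2 (nat_lit 29)

/-- the test of the frame: a product satisfying the relators is `r`, and the relators do not hold for `x²` -/
noncomputable def testF (L : List ℕ) : Bool :=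
  cond (commB lk base L [tF] [tF])
    (cond (Rs.all fun R => relB lk (sel3 sX sF L) base R) (agreeB lk base L sR) true &&
      !(Rs.all fun R => relB lk (sel3 sX2 sF L) base R)) true

/-- the search for the centralizer of `x` -/
noncomputable def pX : ℕ → Bool := srchC lk lkS fuelR nn 4 Ls tX2 testX

/-- the search for the frame -/
noncomputable def pF : ℕ → Bool := srchC lk lkS fuelR nn 4 Ls tF testF

theorem allX0 : allN pX 12 0 = true := by decide +kernel

theorem allF0 : allN pF 12 0 = true := by decide +kernel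

theorem allX : ∀ c, c < nn → pX c = true := fun c hc => of_allN pX 12 0 allX0 c (Nat.zero_le _) (by norm_num [nn] at hc ⊢; omega)

theorem allF : ∀ c, c < nn → pF c = true := fun c hc => of_allN pF 12 0 allF0 c (Nat.zero_le _) (by norm_num [nn] at hc ⊢; omega)

theorem cent_x2 {y : Equiv.Perm ℕ} (hy : y ∈ AA) (hc : y * x2P = x2P * y) : ∃ k : ℕ, y = x2P ^ k := by
  have hc' : y⁻¹ * x2P = x2P * y⁻¹ := by
    rw [eq_mul_inv_iff_mul_eq, mul_assoc, ← hc, ← mul_assoc, inv_mul_cancel, one_mul]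
  obtain ⟨k, hk⟩ := cent_of_search (lkS := lkS) (fuel := fuelR) (b₀ := nat_lit 176) (K := 29) hCh r_x2 m_x2 (by norm_num)
    (by decide +kernel) hbase allX (AA.inv_mem hy) (lt_AA (AA.inv_mem hy)) hc'
  exact ⟨k, by simpa using hk⟩

theorem x2_eq : x2P = cP * xP * ciP := by
  rw [ci_eq, c_x]
  group

/-- The centralizer of `x`. -/
theorem cent_x {y : Equiv.Perm ℕ} (hy : y ∈ AA) (hc : y * xP = xP * y) : ∃ k : ℕ, y = xP ^ k := by
  set y' := cP * y * cP⁻¹ with hy'
  have hm : y' ∈ AA := AA.mul_mem (AA.mul_mem m_c hy) (AA.inv_mem m_c)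
  have h1 : y' * x2P = x2P * y' := by
    rw [x2_eq, ci_eq, hy']
    calc cP * y * cP⁻¹ * (cP * xP * cP⁻¹) = cP * (y * xP) * cP⁻¹ := by group
      _ = cP * (xP * y) * cP⁻¹ := by rw [hc]
      _ = _ := by group
  obtain ⟨k, hk⟩ := cent_x2 hm h1
  refine ⟨k, ?_⟩
  have h2 : x2P ^ k = cP * xP ^ k * cP⁻¹ := by
    rw [x2_eq, ci_eq]
    exact conj_pow
  rw [h2, hy'] at hk
  have h3 : cP * y * cP⁻¹ * cP = cP * xP ^ k * cP⁻¹ * cP := by rw [hk]
  simp only [inv_mul_cancel_right] at h3
  exact mul_left_cancel h3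

/-- The result of the search for the frame. -/
theorem frame_spec {y : Equiv.Perm ℕ} (hy : y ∈ AA) (hc : y * fP = fP * y) :
    ∃ L, RepL lk nn y L ∧ (Rs.all (fun R => relB lk (sel3 sX sF L) base R) = true → agreeB lk base L sR = true) ∧
      ¬ (Rs.all (fun R => relB lk (sel3 sX2 sF L) base R) = true) := by
  have hc' : y⁻¹ * fP = fP * y⁻¹ := by
    rw [eq_mul_inv_iff_mul_eq, mul_assoc, ← hc, ← mul_assoc, inv_mul_cancel, one_mul]
  obtain ⟨L, hL, ht⟩ := srch_spec (lkS := lkS) (fuel := fuelR) (b₀ := nat_lit 176) (test := testF) hCh r_f (by norm_num)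
    (by decide +kernel) allF (AA.inv_mem hy) (lt_AA (AA.inv_mem hy)) hc'
  rw [inv_inv] at hL
  have h1 := commB_of (base := base) hbase hL r_f.toL r_f.toL hc
  rw [testF, h1] at ht
  simp only [cond_true, Bool.and_eq_true, Bool.not_eq_true'] at ht
  refine ⟨L, hL, ?_, ?_⟩
  · intro h2
    rw [h2] at ht
    exact ht.1
  · rw [ht.2]
    simp

/-- The element of the centralizer of `f` satisfying the relators. -/
theorem frame1 {y : Equiv.Perm ℕ} (hy : y ∈ AA) (hc : y * fP = fP * y)
    (hr : ∀ R ∈ Rs, prodG (sel3 xP fP y) R = 1) : y = rP := by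
  obtain ⟨L, hL, h5, -⟩ := frame_spec hy hc
  have hall : Rs.all (fun R => relB lk (sel3 sX sF L) base R) = true := by
    rw [List.all_eq_true]
    intro r hr'
    exact relB_of (hSel r_x.toL r_f.toL hL) (s := sel3 xP fP y) hbase (hr r hr')
  exact eqb hy m_r hL r_r.toL (h5 hall)

/-- The relators do not hold for `x²`. -/
theorem frame2 {y : Equiv.Perm ℕ} (hy : y ∈ AA) (hc : y * fP = fP * y)
    (hr : ∀ R ∈ Rs, prodG (sel3 (xP * xP) fP y) R = 1) : False := by
  obtain ⟨L, hL, -, h5⟩ := frame_spec hy hc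
  apply h5
  rw [List.all_eq_true]
  intro r hr'
  exact relB_of (hSel (r_x.toL.append r_x.toL) r_f.toL hL) (s := sel3 (xP * xP) fP y) hbase (hr r hr')

end Cfsg.Agent.Lib.RuO
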