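import Mathlib
import Cfsg.Agent.Lib.RuO.Defs

set_option autoImplicit false
set_option maxRecDepth 100000
set_option Elab.async false
set_option linter.all false

namespace Cfsg.Agent.Lib.RuO

open Cfsg.Agent.Lib.OutStrip Cfsg.Agent.Lib.TcFacts Cfsg.Agent.Lib.TcBits Cfsg.Agent.Lib.TcChain

theorem hW0 : ∀ t ∈ S1, ∀ a ∈ W t, a.1 ∈ S0 := by decide +kernel

theorem heq0 : ∀ t ∈ S1, ∀ j, j < 12 → wordApply (sgnProg pL) ((t, false) :: W t) (slice 12 j) = slice 12 j := by decide +kernel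

theorem hfx0 : ∀ t ∈ S1, progApply (pL t) (2 ^ 176) = 2 ^ 176 := by decide +kernel

theorem hgrow0 : growLN pL S0 11 (2 ^ 176) = O0 := by decide +kernel

theorem hc0 : sumRange O0.testBit 12 0 = 4060 := by
  rw [Cfsg.Agent.Lib.TcLevels.sumRange_eq_popC]
  decide +kernel

theorem hm0 : ∀ i ∈ S0, progApply (pL i) O0 = O0 := by decide +kernel

theorem hb0 : O0.testBit 176 = true := by decide +kernel

theorem hW1 : ∀ t ∈ S2, ∀ a ∈ W t, a.1 ∈ S1 := by decide +kernel

theorem heq1 : ∀ t ∈ S2, ∀ j, j < 12 → wordApply (sgnProg pL) ((t, false) :: W t) (slice 12 j) = slice 12 j := by decide +kernel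

theorem hfx1 : ∀ t ∈ S2, progApply (pL t) (2 ^ 2065) = 2 ^ 2065 := by decide +kernel

theorem hgrow1 : growLN pL S1 10 (2 ^ 2065) = O1 := by decide +kernel

theorem hc1 : sumRange O1.testBit 12 0 = 2304 := by
  rw [Cfsg.Agent.Lib.TcLevels.sumRange_eq_popC]
  decide +kernel

theorem hm1 : ∀ i ∈ S1, progApply (pL i) O1 = O1 := by decide +kernel

theorem hb1 : O1.testBit 2065 = true := by decide +kernel

theorem hW2 : ∀ t ∈ S3, ∀ a ∈ W t, a.1 ∈ S2 := by decide +kernel

theorem heq2 : ∀ t ∈ S3, ∀ j, j < 12 → wordApply (sgnProg pL) ((t, false) :: W t) (slice 12 j) = slice 12 j := by decide +kernel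

theorem hfx2 : ∀ t ∈ S3, progApply (pL t) (2 ^ 3715) = 2 ^ 3715 := by decide +kernel

theorem hgrow2 : growLN pL S2 9 (2 ^ 3715) = O2 := by decide +kernel

theorem hc2 : sumRange O2.testBit 12 0 = 975 := by
  rw [Cfsg.Agent.Lib.TcLevels.sumRange_eq_popC]
  decide +kernel

theorem hm2 : ∀ i ∈ S2, progApply (pL i) O2 = O2 := by decide +kernel

theorem hb2 : O2.testBit 3715 = true := by decide +kernel

theorem hW3 : ∀ t ∈ S4, ∀ a ∈ W t, a.1 ∈ S3 := by decide +kernel

theorem heq3 : ∀ t ∈ S4, ∀ j, j < 12 → wordApply (sgnProg pL) ((t, false) :: W t) (slice 12 j) = slice 12 j := by decide +kernel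

theorem hfx3 : ∀ t ∈ S4, progApply (pL t) (2 ^ 1150) = 2 ^ 1150 := by decide +kernel

theorem hgrow3 : growLN pL S3 3 (2 ^ 1150) = O3 := by decide +kernel

theorem hc3 : sumRange O3.testBit 12 0 = 16 := by
  rw [Cfsg.Agent.Lib.TcLevels.sumRange_eq_popC]
  decide +kernel

theorem hm3 : ∀ i ∈ S3, progApply (pL i) O3 = O3 := by decide +kernel

theorem hb3 : O3.testBit 1150 = true := by decide +kernel

end Cfsg.Agent.Lib.RuO
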