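import Mathlib
import Cfsg.Agent.Lib.RuO.Elts
import Cfsg.Agent.Lib.OutNorm2

/-!
# `Out` of the Rudvalis group on 4060 points is trivial
-/

set_option autoImplicit false
set_option maxRecDepth 100000
set_option Elab.async false
set_option linter.all false

namespace Cfsg.Agent.Lib.RuO

open Cfsg Cfsg.Agent.Lib.OutStrip Cfsg.Agent.Lib.TcFacts Cfsg.Agent.Lib.TcBits Cfsg.Agent.Lib.TcChain
open Cfsg.Agent.Lib.RuMain Cfsg.Agent.Lib.ProgChain Cfsg.Agent.Lib.ProgBits
open Cfsg.Agent.Lib.OutNorm Cfsg.Agent.Lib.OutNorm2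

/-- the map to permutations -/
noncomputable def iota : HH →* Equiv.Perm ℕ := iotaH.comp HH.subtype

theorem iota_apply (z : HH) : iota z = iotaH z.1 := rfl

theorem iota_inj : Function.Injective iota := fun _ _ h => Subtype.ext (iotaH_inj h)

theorem iota_mem (z : HH) : iota z ∈ AA := by
  rw [← hmapAA]
  exact ⟨z.1, z.2, rfl⟩

theorem exists_pre {p : Equiv.Perm ℕ} (hp : p ∈ AA) : ∃ z : HH, iota z = p := by
  rw [← hmapAA] at hp
  obtain ⟨w, hw, rfl⟩ := hp
  exact ⟨⟨w, hw⟩, rfl⟩

/-- a preimage of an element of the group of programs -/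
noncomputable def pre (p : Equiv.Perm ℕ) (hp : p ∈ AA) : HH := Classical.choose (exists_pre hp)

theorem iota_pre (p : Equiv.Perm ℕ) (hp : p ∈ AA) : iota (pre p hp) = p := Classical.choose_spec (exists_pre hp)

/-- the element `x` -/
noncomputable def xG : HH := pre xP m_x
/-- the element `f` -/
noncomputable def fG : HH := pre fP m_f
/-- the element `r` -/
noncomputable def rG : HH := pre rP m_r

theorem iota_x : iota xG = xP := iota_pre _ _
theorem iota_f : iota fG = fP := iota_pre _ _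
theorem iota_r : iota rG = rP := iota_pre _ _

theorem xG_pow : xG ^ 29 = 1 := iota_inj (by rw [map_pow, iota_x, x_pow, map_one])

theorem xG_ord : orderOf xG = 29 := by
  haveI : Fact (Nat.Prime 29) := ⟨by norm_num⟩
  refine orderOf_eq_prime xG_pow fun h => x_ne ?_
  rw [← iota_x, h, map_one]

theorem f_x_P : fP * xP * fP⁻¹ = xP ^ 9 := by
  rw [mul_inv_eq_iff_eq_mul]
  exact f_x

theorem fG_xG : fG * xG * fG⁻¹ = xG ^ 9 :=
  iota_inj (by simp only [map_mul, map_inv, map_pow, iota_x, iota_f]; exact f_x_P)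

theorem hC_G (y : HH) (hy : y * xG = xG * y) : ∃ k : ℕ, y = xG ^ k := by
  have h1 : iota y * xP = xP * iota y := by
    rw [← iota_x, ← map_mul, ← map_mul, hy]
  obtain ⟨k, hk⟩ := cent_x (iota_mem y) h1
  exact ⟨k, iota_inj (by rw [hk, map_pow, iota_x])⟩

instance instFG : Finite HH := Subtype.finite

theorem hnf (α : MulAut HH) : ∃ c : HH, ((MulAut.conj c * α) xG = xG ∨ (MulAut.conj c * α) xG = xG ^ 2) ∧
    (MulAut.conj c * α) fG = fG := by
  have : Fact (Nat.Prime 29) := ⟨by norm_num⟩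
  obtain ⟨c, e, he, h1, h2⟩ := normal_form2 (p := 29) (a := 9) (b := 11) [1, 2] (x := xG) (f := fG) (by decide)
    (by
      rw [Cfsg.Agent.Lib.RuPMain.cardH0]
      norm_num)
    xG_ord fG_xG
    (by
      intro k hk
      have harith : ∀ r : Fin 29, r.val ≠ 0 → ∃ j : Fin 14, ∃ e ∈ [1, 2], (r.val * 9 ^ j.val) % 29 = e % 29 := by
        decide +kernel
      have hk' : k % 29 ≠ 0 := fun h => hk (Nat.dvd_of_mod_eq_zero h)
      obtain ⟨j, e, he, hj⟩ := harith ⟨k % 29, Nat.mod_lt _ (by norm_num)⟩ hk'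
      simp only at hj
      exact ⟨j.val, e, he, ((Nat.mod_modEq k 29).mul_right _).symm.trans hj⟩)
    (by decide)
    hC_G
    α
  refine ⟨c, ?_, h2⟩
  simp only [List.mem_cons, List.not_mem_nil, or_false] at he
  rcases he with rfl | rfl
  · left
    simpa using h1
  · right
    exact h1

/-! ### the rigidity -/

theorem rG_f : rG * fG = fG * rG := iota_inj (by
  simp only [map_mul, iota_r, iota_f]
  exact r_f_comm)

theorem hG_rels : ∀ r ∈ Rs, prodG (sel3 xG fG rG) r = 1 := by
  intro r hr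
  apply iota_inj
  rw [map_prodG, map_one]
  have h4 : (fun e => iota (sel3 xG fG rG e)) = sel3 xP fP rP := by
    funext e
    rw [sel3_map iota xG fG rG e, iota_x, iota_f, iota_r]
  rw [h4]
  exact r_rels r hr

/-- The image of `r` under an automorphism fixing `f` and sending `x` to `x'`. -/
theorem rels_image (β : MulAut HH) {x' : HH} {X' : Equiv.Perm ℕ} (hX' : iota x' = X') (h1 : β xG = x') (h2 : β fG = fG) :
    iota (β rG) * fP = fP * iota (β rG) ∧ ∀ r ∈ Rs, prodG (sel3 X' fP (iota (β rG))) r = 1 := by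
  set z := β rG with hz
  constructor
  · have h3 := congrArg β rG_f
    rw [map_mul, map_mul, h2] at h3
    have h4 := congrArg iota h3
    rwa [map_mul, map_mul, iota_f] at h4
  · have hZ : ∀ r ∈ Rs, prodG (sel3 x' fG z) r = 1 := by
      intro r hr
      have h3 := map_prodG β.toMonoidHom (sel3 xG fG rG) r
      have h4 : (fun e => β.toMonoidHom (sel3 xG fG rG e)) = sel3 x' fG z := by
        funext e
        have := sel3_map β.toMonoidHom xG fG rG e
        rw [this]
        show sel3 (β xG) (β fG) (β rG) e = _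
        rw [h1, h2]
      rw [h4, hG_rels r hr, map_one] at h3
      exact h3.symm
    intro r hr
    have h3 := map_prodG iota (sel3 x' fG z) r
    have h4 : (fun e => iota (sel3 x' fG z e)) = sel3 X' fP (iota z) := by
      funext e
      rw [sel3_map iota x' fG z e, hX', iota_f]
    rw [h4, hZ r hr, map_one] at h3
    exact h3.symm

theorem fix_r (β : MulAut HH) (h1 : β xG = xG) (h2 : β fG = fG) : β rG = rG := by
  obtain ⟨hc, hr⟩ := rels_image β iota_x h1 h2
  have h5 := frame1 (iota_mem _) hc hr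
  exact iota_inj (by rw [h5, iota_r])

theorem no_twist (β : MulAut HH) (h1 : β xG = xG ^ 2) (h2 : β fG = fG) : False := by
  have hX : iota (xG ^ 2) = xP * xP := by
    rw [map_pow, iota_x, pow_two]
  obtain ⟨hc, hr⟩ := rels_image β hX h1 h2
  exact frame2 (iota_mem _) hc hr

/-! ### the generation -/

/-- the nodes -/
noncomputable def trN (i : ℕ) : List ℕ := Nat.rec (motive := fun _ => List ℕ) [tA0] (fun e _ => Nat.rec (motive := fun _ => List ℕ) [tF] (fun _ _ => [tR]) e) i
/-- the inverse nodes -/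
noncomputable def triN (i : ℕ) : List ℕ := Nat.rec (motive := fun _ => List ℕ) [tAi] (fun e _ => Nat.rec (motive := fun _ => List ℕ) [tFi] (fun _ _ => [tR]) e) i

theorem nodes_K {K : Subgroup (Equiv.Perm ℕ)} (hx : xP ∈ K) (hf : fP ∈ K) (hr : rP ∈ K) :
    ∀ i, i < 3 → ∃ v ∈ K, RepL lk nn v (trN i) ∧ RepL lk nn v⁻¹ (triN i) := by
  intro i hi
  interval_cases i
  · refine ⟨xP, hx, r_x.toL, ?_⟩
    rw [← xi_eq]
    exact r_xi.toL
  · refine ⟨fP, hf, r_f.toL, ?_⟩
    rw [← fi_eq]
    exact r_fi.toL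
  · refine ⟨rP, hr, r_r.toL, ?_⟩
    rw [r_inv]
    exact r_r.toL

theorem b_mem {K : Subgroup (Equiv.Perm ℕ)} (hKH : K ≤ AA) (hx : xP ∈ K) (hf : fP ∈ K) (hr : rP ∈ K) : bP ∈ K := by
  refine mem_of_nodes hCh hbase hKH (nodes_K hx hf hr) m_b r_b.toL bW (by decide +kernel) (by decide +kernel)

theorem hgen (β : MulAut HH) (h1 : β xG = xG) (h2 : β fG = fG) (h3 : β rG = rG) : β = 1 := by
  let F : Subgroup HH := MonoidHom.eqLocus β.toMonoidHom (MonoidHom.id HH)
  have hKH : F.map iota ≤ AA := by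
    rintro _ ⟨z, -, rfl⟩
    exact iota_mem z
  have hx : xP ∈ F.map iota := ⟨xG, h1, iota_x⟩
  have hf : fP ∈ F.map iota := ⟨fG, h2, iota_f⟩
  have hr : rP ∈ F.map iota := ⟨rG, h3, iota_r⟩
  have hb := b_mem hKH hx hf hr
  have htop : F.map iota = AA := by
    apply le_antisymm hKH
    apply (Subgroup.closure_le _).mpr
    rintro _ ⟨i, hi, rfl⟩
    have hi' : i ∈ S0 := hi
    simp only [S0, List.mem_cons, List.not_mem_nil, or_false] at hi'
    rcases hi' with rfl | rfl
    · have e : progPerm (pL 0) = xP := by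
        simp [xP, sP, wTab, wTabL, wordPerm, sgnProg]
      show progPerm (pL 0) ∈ _
      rw [e]
      exact hx
    · have e : progPerm (pL 1) = bP := by
        simp [bP, sP, wTab, wTabL, wordPerm, sgnProg]
      show progPerm (pL 1) ∈ _
      rw [e]
      exact hb
  refine MulEquiv.ext fun z => ?_
  have hz := iota_mem z
  rw [← htop] at hz
  obtain ⟨w, hw, e⟩ := hz
  have h4 : w = z := iota_inj e
  subst h4
  exact hw

/-- The order of `Out(HH)`. -/
theorem card_out : Nat.card (Cfsg.Out HH) = 1 := by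
  show (Inn HH).index = 1
  rw [Subgroup.index_eq_one, eq_top_iff]
  intro α _
  obtain ⟨c, h1, h2⟩ := hnf α
  rcases h1 with h1 | h1
  · have h3 := hgen _ h1 h2 (fix_r _ h1 h2)
    refine ⟨c⁻¹, ?_⟩
    have h4 : α = (MulAut.conj c)⁻¹ := eq_inv_of_mul_eq_one_right h3
    rw [h4, map_inv]
  · exact (no_twist _ h1 h2).elim

end Cfsg.Agent.Lib.RuO
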